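import Groth.Agent.Lib.FibPow.Cartan
import Mathlib.CategoryTheory.Sites.SheafCohomology.Basic
import Mathlib.Algebra.Homology.DerivedCategory.Ext.EnoughInjectives

/-!
# Cartan's criterion over an atlas, without a final object

* `ProdPow`: powers of an object.
* `subsingleton_H_of_atlas`: acyclic sheaves have no higher cohomology.
-/

set_option autoImplicit false
set_option backward.isDefEq.respectTransparency false
set_option backward.isDefEq.respectTransparency.types false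

universe w v u

open CategoryTheory Limits Opposite CategoryTheory.Abelian

noncomputable section

namespace GrothLib

variable {C : Type u} [Category.{v} C] {U : C}

/-- Powers of `U`: `P n` is the product of `n + 1` copies. -/
structure ProdPow (U : C) where
  P : ℕ → C
  π : ∀ n, Fin (n + 1) → (P n ⟶ U)
  exists_lift : ∀ {W : C} (n : ℕ) (a : Fin (n + 1) → (W ⟶ U)), ∃ l : W ⟶ P n, ∀ i, l ≫ π n i = a i
  hom_ext : ∀ {W : C} (n : ℕ) (l l' : W ⟶ P n), (∀ i, l ≫ π n i = l' ≫ π n i) → l = l'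

namespace ProdPow

variable (E : ProdPow U)

/-- The map to a power with given components. -/
def lift {W : C} (n : ℕ) (a : Fin (n + 1) → (W ⟶ U)) : W ⟶ E.P n := (E.exists_lift n a).choose

@[reassoc]
theorem lift_π {W : C} (n : ℕ) (a : Fin (n + 1) → (W ⟶ U)) (i : Fin (n + 1)) : E.lift n a ≫ E.π n i = a i :=
  (E.exists_lift n a).choose_spec i

/-- Omit the `k`-th component. -/
def δ (n : ℕ) (k : Fin (n + 2)) : E.P (n + 1) ⟶ E.P n := E.lift n fun i => E.π (n + 1) (k.succAbove i)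

@[reassoc]
theorem δ_π (n : ℕ) (k : Fin (n + 2)) (i : Fin (n + 1)) : E.δ n k ≫ E.π n i = E.π (n + 1) (k.succAbove i) :=
  E.lift_π _ _ _

section differential

variable (G : Cᵒᵖ ⥤ AddCommGrpCat.{w})

/-- The simplicial object of powers. -/
def nerve : SimplicialObject C where
  obj m := E.P m.unop.len
  map φ := E.lift _ fun i => E.π _ (φ.unop.toOrderHom i)
  map_id m := E.hom_ext _ _ _ fun i => by rw [lift_π, Category.id_comp]; rfl
  map_comp φ ψ := E.hom_ext _ _ _ fun i => by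
    rw [Category.assoc, lift_π, lift_π, lift_π]; rfl

theorem nerve_δ (n : ℕ) (k : Fin (n + 2)) : E.nerve.map (SimplexCategory.δ k).op = E.δ n k :=
  E.hom_ext _ _ _ fun i => (E.lift_π _ _ i).trans (E.δ_π n k i).symm

/-- The alternating Čech differential. -/
def d (n : ℕ) : G.obj (op (E.P n)) ⟶ G.obj (op (E.P (n + 1))) :=
  ∑ k : Fin (n + 2), (-1 : ℤ) ^ (k : ℕ) • G.map (E.δ n k).op

theorem d_apply (n : ℕ) (x : G.obj (op (E.P n))) :
    E.d G n x = ∑ k : Fin (n + 2), (-1 : ℤ) ^ (k : ℕ) • G.map (E.δ n k).op x := by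
  show AddCommGrpCat.homAddEquiv (∑ k : Fin (n + 2), (-1 : ℤ) ^ (k : ℕ) • G.map (E.δ n k).op) x = _
  rw [map_sum, AddMonoidHom.finsetSum_apply]
  rfl

theorem d_d (n : ℕ) (x : G.obj (op (E.P n))) : E.d G (n + 1) (E.d G n x) = 0 := by
  let c : CosimplicialObject AddCommGrpCat.{w} := E.nerve.rightOp ⋙ G
  have h : ∀ m, E.d G m = AlgebraicTopology.AlternatingCofaceMapComplex.objD c m := fun m => by
    refine Finset.sum_congr rfl fun k _ => congrArg (fun z => (-1 : ℤ) ^ (k : ℕ) • z) ?_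
    show G.map (E.δ m k).op = G.map (E.nerve.map (SimplexCategory.δ k).op).op
    rw [nerve_δ]
  have := ConcreteCategory.congr_hom (AlgebraicTopology.AlternatingCofaceMapComplex.d_squared c n) x
  rw [h, h]
  exact this

theorem d_naturality {G' : Cᵒᵖ ⥤ AddCommGrpCat.{w}} (φ : G ⟶ G') (n : ℕ) (x : G.obj (op (E.P n))) :
    φ.app (op (E.P (n + 1))) (E.d G n x) = E.d G' n (φ.app (op (E.P n)) x) := by
  rw [d_apply, d_apply, map_sum]
  refine Finset.sum_congr rfl fun k _ => ?_
  rw [map_zsmul]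
  exact congrArg _ (ConcreteCategory.congr_hom (φ.naturality (E.δ n k).op) x)

end differential

/-- Positive degree cocycles are coboundaries. -/
def Vanishes (G : Cᵒᵖ ⥤ AddCommGrpCat.{w}) : Prop :=
  ∀ (n : ℕ) (c : G.obj (op (E.P (n + 1)))), E.d G (n + 1) c = 0 → ∃ b, E.d G n b = c

section injective

omit E in
/-- A chosen map to `U`. -/
def sect {W : C} (h : Nonempty (W ⟶ U)) : W ⟶ U := Classical.choice h

/-- Prepend the chosen map. -/
def cons {W : C} (n : ℕ) (a : W ⟶ E.P n) : W ⟶ E.P (n + 1) :=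
  E.lift (n + 1) (Fin.cases (sect ⟨a ≫ E.π n 0⟩) fun i => a ≫ E.π n i)

theorem cons_δ_zero {W : C} (n : ℕ) (a : W ⟶ E.P n) : E.cons n a ≫ E.δ n 0 = a :=
  E.hom_ext _ _ _ fun i => by
    rw [Category.assoc, δ_π, cons, lift_π, Fin.zero_succAbove, Fin.cases_succ]

theorem cons_δ_succ {W : C} (n : ℕ) (a : W ⟶ E.P (n + 1)) (k : Fin (n + 2)) :
    E.cons (n + 1) a ≫ E.δ (n + 1) k.succ = E.cons n (a ≫ E.δ n k) :=
  E.hom_ext _ _ _ fun i => by
    rw [Category.assoc, δ_π, cons, lift_π, cons, lift_π]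
    cases i using Fin.cases with
    | zero => rw [Fin.succ_succAbove_zero, Fin.cases_zero, Fin.cases_zero]
    | succ i => rw [Fin.succ_succAbove_succ, Fin.cases_succ, Fin.cases_succ, Category.assoc, δ_π]

/-- The free presheaf on the `n`-th power. -/
abbrev freeP (n : ℕ) : Cᵒᵖ ⥤ AddCommGrpCat.{max w v} :=
  uliftYoneda.{w}.obj (E.P n) ⋙ AddCommGrpCat.free.{max w v}

/-- The boundary of the free complex. -/
def bd (n : ℕ) : E.freeP.{w} (n + 1) ⟶ E.freeP.{w} n :=
  ∑ k : Fin (n + 2), (-1 : ℤ) ^ (k : ℕ) •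
    Functor.whiskerRight (uliftYoneda.{w}.map (E.δ n k)) AddCommGrpCat.free.{max w v}

/-- A generator of the free presheaf. -/
def gen {n : ℕ} {W : C} (a : W ⟶ E.P n) : (E.freeP.{w} n).obj (op W) := FreeAbelianGroup.of (ULift.up a)

theorem freeP_map {n : ℕ} {W W' : C} (k : W' ⟶ W) (a : W ⟶ E.P n) :
    (E.freeP.{w} n).map k.op (E.gen a) = E.gen (k ≫ a) :=
  FreeAbelianGroup.map_of_apply _

theorem bd_of (n : ℕ) {W : C} (a : W ⟶ E.P (n + 1)) :
    (E.bd n).app (op W) (E.gen.{w} a) =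
      ∑ k : Fin (n + 2), (-1 : ℤ) ^ (k : ℕ) • E.gen.{w} (a ≫ E.δ n k) := by
  rw [bd, NatTrans.app_sum]
  show AddCommGrpCat.homAddEquiv (∑ k, _) _ = _
  rw [map_sum, AddMonoidHom.finsetSum_apply]
  refine Finset.sum_congr rfl fun k _ => ?_
  rw [NatTrans.app_zsmul, map_zsmul, AddMonoidHom.smul_apply]
  exact congrArg _ (FreeAbelianGroup.map_of_apply _)

theorem freeP_hom_ext {n : ℕ} {W : C} {A : Type*} [AddCommGroup A]
    (φ ψ : (E.freeP.{w} n).obj (op W) →+ A) (h : ∀ a : W ⟶ E.P n, φ (E.gen a) = ψ (E.gen a)) : φ = ψ :=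
  FreeAbelianGroup.lift_ext φ ψ fun a => h a.down

/-- The contracting homotopy. -/
def homotopy (n : ℕ) (W : C) : (E.freeP.{w} n).obj (op W) →+ (E.freeP.{w} (n + 1)).obj (op W) :=
  FreeAbelianGroup.lift fun a => E.gen (E.cons n a.down)

theorem homotopy_gen {n : ℕ} {W : C} (a : W ⟶ E.P n) :
    E.homotopy.{w} n W (E.gen a) = E.gen (E.cons n a) :=
  FreeAbelianGroup.lift_apply_of _ _

theorem exists_preimage (n : ℕ) (W : C) (x : (E.freeP.{w} (n + 1)).obj (op W))
    (hx : (E.bd n).app (op W) x = 0) : ∃ y, (E.bd (n + 1)).app (op W) y = x := by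
  have key : ((E.bd.{w} (n + 1)).app (op W)).hom.comp (E.homotopy (n + 1) W) +
      (E.homotopy n W).comp ((E.bd.{w} n).app (op W)).hom = AddMonoidHom.id _ := by
    refine E.freeP_hom_ext _ _ fun a => ?_
    show (E.bd (n + 1)).app (op W) (E.homotopy (n + 1) W (E.gen a)) +
      E.homotopy n W ((E.bd n).app (op W) (E.gen a)) = E.gen a
    rw [homotopy_gen, bd_of, bd_of, map_sum, Fin.sum_univ_succ]
    simp only [map_zsmul, homotopy_gen, cons_δ_zero, cons_δ_succ, Fin.val_zero, pow_zero,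
      one_smul, Fin.val_succ, pow_succ, mul_neg, mul_one, neg_smul, Finset.sum_neg_distrib]
    abel
  refine ⟨E.homotopy (n + 1) W x, ?_⟩
  have h := DFunLike.congr_fun key x
  change (E.bd (n + 1)).app (op W) (E.homotopy (n + 1) W x) + E.homotopy n W ((E.bd n).app (op W) x) = x at h
  rw [hx, map_zero, add_zero] at h
  exact h

variable (G : Cᵒᵖ ⥤ AddCommGrpCat.{max w v})

/-- The morphism out of the free presheaf given by a section. -/
def ofSec {n : ℕ} (x : G.obj (op (E.P n))) : E.freeP.{w} n ⟶ G where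
  app W := AddCommGrpCat.ofHom (FreeAbelianGroup.lift fun a => G.map a.down.op x)
  naturality W W' k := by
    refine AddCommGrpCat.hom_ext (E.freeP_hom_ext (W := W.unop) _ _ fun a => ?_)
    show FreeAbelianGroup.lift _ ((E.freeP.{w} n).map k.unop.op (E.gen a)) = G.map k.unop.op (FreeAbelianGroup.lift _ _)
    rw [freeP_map]
    refine (FreeAbelianGroup.lift_apply_of _ _).trans ?_
    refine Eq.trans ?_ (congrArg _ (FreeAbelianGroup.lift_apply_of _ _)).symm
    show G.map (k.unop ≫ a).op x = _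
    rw [op_comp, Functor.map_comp_apply]

theorem ofSec_app {n : ℕ} (x : G.obj (op (E.P n))) :
    (E.ofSec G x).app (op (E.P n)) (E.gen (𝟙 _)) = x := by
  refine (FreeAbelianGroup.lift_apply_of _ _).trans ?_
  rw [op_id, G.map_id]; rfl

theorem hom_ext_of {n : ℕ} {φ ψ : E.freeP.{w} n ⟶ G}
    (h : φ.app (op (E.P n)) (E.gen (𝟙 _)) = ψ.app (op (E.P n)) (E.gen (𝟙 _))) : φ = ψ := by
  refine NatTrans.ext (funext fun W => AddCommGrpCat.hom_ext (E.freeP_hom_ext (W := W.unop) _ _ fun a => ?_))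
  have hn : ∀ χ : E.freeP.{w} n ⟶ G, χ.app (op W.unop) (E.gen a) =
      G.map a.op (χ.app (op (E.P n)) (E.gen (𝟙 _))) := fun χ => by
    refine Eq.trans ?_ (ConcreteCategory.congr_hom (χ.naturality a.op) _)
    refine congrArg (χ.app (op W.unop)) ((E.freeP_map a (𝟙 _)).trans ?_).symm
    rw [Category.comp_id]
  exact (hn φ).trans ((congrArg _ h).trans (hn ψ).symm)

theorem bd_comp_app {n : ℕ} (χ : E.freeP.{w} n ⟶ G) :
    (E.bd n ≫ χ).app (op (E.P (n + 1))) (E.gen (𝟙 _)) = E.d G n (χ.app (op (E.P n)) (E.gen (𝟙 _))) := by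
  refine (congrArg (χ.app (op (E.P (n + 1)))) (E.bd_of n (𝟙 _))).trans ?_
  rw [map_sum, d_apply]
  refine Finset.sum_congr rfl fun k _ => ?_
  rw [map_zsmul]
  refine congrArg _ ?_
  refine Eq.trans ?_ (ConcreteCategory.congr_hom (χ.naturality (E.δ n k).op) _)
  refine congrArg (χ.app (op (E.P (n + 1)))) ((E.freeP_map (E.δ n k) (𝟙 _)).trans ?_).symm
  rw [Category.comp_id, Category.id_comp]

/-- Čech cohomology of injective presheaves vanishes in positive degrees. -/
theorem vanishes_of_injective [Injective G] : E.Vanishes G := fun n c hc => by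
  have h0 : E.bd.{w} (n + 1) ≫ E.bd n = 0 := E.hom_ext_of _ (by
    rw [bd_comp_app, ← Category.comp_id (E.bd.{w} n), bd_comp_app, d_d]
    rfl)
  let S : ShortComplex (Cᵒᵖ ⥤ AddCommGrpCat.{max w v}) := ShortComplex.mk (E.bd.{w} (n + 1)) (E.bd n) h0
  have hS : S.Exact := by
    rw [ShortComplex.exact_iff_isZero_homology]
    refine Functor.isZero _ fun W => ?_
    refine IsZero.of_iso ?_ (S.mapHomologyIso ((evaluation Cᵒᵖ AddCommGrpCat.{max w v}).obj W)).symm
    rw [← ShortComplex.exact_iff_isZero_homology, ShortComplex.ab_exact_iff]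
    exact fun x hx => E.exists_preimage n W.unop x hx
  let ψ := hS.descToInjective (E.ofSec G c) (E.hom_ext_of G (by
    rw [bd_comp_app, ofSec_app, hc]; rfl))
  refine ⟨ψ.app (op (E.P n)) (E.gen (𝟙 _)), ?_⟩
  rw [← bd_comp_app, show E.bd n ≫ ψ = E.ofSec G c from hS.comp_descToInjective _ _, ofSec_app]

end injective

end ProdPow

namespace FibPow

variable {J : GrothendieckTopology C} [HasSheafify J AddCommGrpCat.{max w v}]
  [J.WEqualsLocallyBijective AddCommGrpCat.{max w v}] [J.HasSheafCompose (forget AddCommGrpCat.{max w v})]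

/-- The element `1` of the constant group. -/
abbrev one : (AddCommGrpCat.of (ULift.{max w v} ℤ) : AddCommGrpCat.{max w v}) := ULift.up 1

theorem hom_ext_one {A : AddCommGrpCat.{max w v}} {a b : AddCommGrpCat.of (ULift.{max w v} ℤ) ⟶ A}
    (h : a one.{w, v} = b one.{w, v}) : a = b := by
  ext ⟨m⟩
  have hm : (ULift.up m : ULift.{max w v} ℤ) = m • (ULift.up 1 : ULift.{max w v} ℤ) := by
    ext
    simp
  change a (ULift.up m : ULift.{max w v} ℤ) = b (ULift.up m : ULift.{max w v} ℤ)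
  rw [hm, map_zsmul, map_zsmul]
  exact congrArg (m • ·) h

variable (K : CoverClass.{w} J) (E : ProdPow U) (hB : ∀ n, K.B (E.P n))
  (hcov : ∀ W : C, ∃ (W' : C) (c : W' ⟶ W), Nonempty (W' ⟶ U) ∧ Sieve.generate (Presieve.singleton c) ∈ J W)

/-- Acyclicity for the class and the atlas. -/
def AtlasAcyclic (G : Sheaf J AddCommGrpCat.{max w v}) : Prop := K.Acyclic G ∧ E.Vanishes G.obj

theorem atlasAcyclic_of_injective (I : Sheaf J AddCommGrpCat.{max w v}) [Injective I] :
    AtlasAcyclic K E I := by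
  haveI : Injective ((sheafToPresheaf J AddCommGrpCat.{max w v}).obj I) :=
    Injective.injective_of_adjoint (sheafificationAdjunction J AddCommGrpCat.{max w v}) I
  exact ⟨K.acyclic_of_injective I, E.vanishes_of_injective.{w} ((sheafToPresheaf J AddCommGrpCat.{max w v}).obj I)⟩

variable {S : ShortComplex (Sheaf J AddCommGrpCat.{max w v})}

include hB in
theorem atlasAcyclic_X₃ (hS : S.ShortExact) (h₁ : AtlasAcyclic K E S.X₁) (h₂ : AtlasAcyclic K E S.X₂) :
    AtlasAcyclic K E S.X₃ := by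
  refine ⟨K.acyclic_X₃ hS h₁.1 h₂.1, fun n c hc => ?_⟩
  obtain ⟨b, hb⟩ := K.surjective hS h₁.1 (hB (n + 1)) c
  obtain ⟨g, hg⟩ := sections_exact hS _ (E.d S.X₂.obj (n + 1) b) (by rw [E.d_naturality, hb, hc])
  obtain ⟨g', hg'⟩ := h₁.2 (n + 1) g (sections_injective hS _ (by rw [E.d_naturality, hg, E.d_d, map_zero]))
  obtain ⟨a, ha⟩ := h₂.2 n (b - S.f.hom.app (op (E.P (n + 1))) g') (by
    rw [map_sub, ← E.d_naturality, hg', hg, sub_self])
  exact ⟨S.g.hom.app (op (E.P n)) a, by rw [← E.d_naturality, ha, map_sub, hb, sections_map_zero, sub_zero]⟩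

include hcov in
/-- A section on `U` whose two pullbacks to the square agree comes from a compatible family. -/
theorem exists_family (G : Sheaf J AddCommGrpCat.{max w v}) (r : G.obj.obj (op (E.P 0)))
    (hr : E.d G.obj 0 r = 0) :
    ∃ t : ∀ W : C, G.obj.obj (op W), (∀ ⦃V W : C⦄ (g : V ⟶ W), G.obj.map g.op (t W) = t V) ∧
      t (E.P 0) = r := by
  have hG : Presieve.IsSheaf J (G.obj ⋙ forget AddCommGrpCat.{max w v}) :=
    (isSheaf_iff_isSheaf_of_type _ _).1 ((sheafCompose J (forget AddCommGrpCat.{max w v})).obj G).property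
  choose W' c hd hc using hcov
  let d : ∀ W, W' W ⟶ U := fun W => Classical.choice (hd W)
  let x : ∀ {Z : C} (_ : Z ⟶ U), G.obj.obj (op Z) := fun {Z} e => G.obj.map (E.lift 0 fun _ => e).op r
  have hx : ∀ {Z Z' : C} (g : Z' ⟶ Z) (e : Z ⟶ U), G.obj.map g.op (x e) = x (g ≫ e) := fun {Z Z'} g e => by
    show G.obj.map g.op (G.obj.map _ r) = G.obj.map _ r
    rw [← Functor.map_comp_apply, ← op_comp]
    have : g ≫ E.lift 0 (fun _ => e) = E.lift 0 (fun _ => g ≫ e) :=
      E.hom_ext _ _ _ fun i => by rw [Category.assoc, E.lift_π, E.lift_π]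
    rw [this]
  have hxx : ∀ {Z : C} (e e' : Z ⟶ U), x e = x e' := fun {Z} e e' => by
    let q := E.lift 1 ![e, e']
    have h0 := congrArg (G.obj.map q.op) hr
    rw [E.d_apply, map_zero, map_sum, Fin.sum_univ_two] at h0
    simp only [Fin.val_zero, pow_zero, one_smul, Fin.val_one, pow_one, neg_smul, map_neg] at h0
    rw [← Functor.map_comp_apply, ← Functor.map_comp_apply, ← op_comp, ← op_comp, add_neg_eq_zero] at h0
    have e₂ : q ≫ E.δ 0 0 = E.lift 0 (fun _ => e') := E.hom_ext _ _ _ fun i => by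
      rw [Category.assoc, E.δ_π, E.lift_π, E.lift_π]
      fin_cases i; rfl
    have e₁ : q ≫ E.δ 0 1 = E.lift 0 (fun _ => e) := E.hom_ext _ _ _ fun i => by
      rw [Category.assoc, E.δ_π, E.lift_π, E.lift_π]
      fin_cases i; rfl
    rw [e₁, e₂] at h0
    exact h0.symm
  have hsh : ∀ W, Presieve.IsSheafFor (G.obj ⋙ forget AddCommGrpCat.{max w v}) (Presieve.singleton (c W)) :=
    fun W => (Presieve.isSheafFor_iff_generate _).2 (hG _ (hc W))
  have hex : ∀ W, ∃ t : G.obj.obj (op W), G.obj.map (c W).op t = x (d W) := fun W => by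
    obtain ⟨t, ht, -⟩ := (Presieve.isSheafFor_singleton (P := G.obj ⋙ forget AddCommGrpCat.{max w v}) (f := c W)).1
      (hsh W) (x (d W)) (fun p₁ p₂ _ => (hx p₁ (d W)).trans ((hxx _ _).trans (hx p₂ (d W)).symm))
    exact ⟨t, ht⟩
  choose t ht using hex
  have key : ∀ {Z W : C} (a : Z ⟶ W) (e : Z ⟶ U), G.obj.map a.op (t W) = x e := fun {Z W} a e => by
    refine (hG _ (J.pullback_stable a (hc W))).isSeparatedFor.ext ?_
    intro Z' h hh
    obtain ⟨_, b, _, ⟨⟩, hb⟩ := hh
    show G.obj.map h.op (G.obj.map a.op (t W)) = G.obj.map h.op (x e)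
    rw [← Functor.map_comp_apply, ← op_comp, ← hb, op_comp, Functor.map_comp_apply, ht, hx, hx]
    exact hxx _ _
  refine ⟨t, fun V W g => ?_, ?_⟩
  · refine (hsh V).isSeparatedFor.ext ?_
    rintro _ _ ⟨⟩
    show G.obj.map (c V).op (G.obj.map g.op (t W)) = G.obj.map (c V).op (t V)
    rw [← Functor.map_comp_apply, ← op_comp, key, ht]
  · have h := key (𝟙 (E.P 0)) (E.π 0 0)
    rw [op_id, G.obj.map_id] at h
    refine h.trans ?_
    show G.obj.map (E.lift 0 fun _ => E.π 0 0).op r = r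
    have : E.lift 0 (fun _ => E.π 0 0) = 𝟙 _ := E.hom_ext _ _ _ fun i => by
      rw [E.lift_π, Category.id_comp, Fin.fin_one_eq_zero i]
    rw [this, op_id, G.obj.map_id]
    rfl

include hB hcov in
/-- Morphisms from the constant sheaf lift along surjections with acyclic kernel. -/
theorem exists_lift_constant (hS : S.ShortExact) (h₁ : AtlasAcyclic K E S.X₁)
    (φ : (constantSheaf J AddCommGrpCat.{max w v}).obj (AddCommGrpCat.of (ULift.{max w v} ℤ)) ⟶ S.X₃) :
    ∃ ψ, ψ ≫ S.g = φ := by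
  let adj := sheafificationAdjunction J AddCommGrpCat.{max w v}
  let P : Cᵒᵖ ⥤ AddCommGrpCat.{max w v} := (Functor.const _).obj (AddCommGrpCat.of (ULift.{max w v} ℤ))
  let φ' : P ⟶ S.X₃.obj := adj.homEquiv P S.X₃ φ
  let s : ∀ W : C, S.X₃.obj.obj (op W) := fun W => φ'.app (op W) one.{w, v}
  have hs : ∀ ⦃V W : C⦄ (g : V ⟶ W), S.X₃.obj.map g.op (s W) = s V := fun V W g =>
    (ConcreteCategory.congr_hom (φ'.naturality g.op) one.{w, v}).symm
  obtain ⟨r, hr⟩ := K.surjective hS h₁.1 (hB 0) (s (E.P 0))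
  have hd : S.g.hom.app (op (E.P 1)) (E.d S.X₂.obj 0 r) = 0 := by
    rw [E.d_naturality, hr, E.d_apply, Fin.sum_univ_two]
    simp only [Fin.val_zero, pow_zero, one_smul, Fin.val_one, pow_one, neg_smul]
    rw [hs, hs]
    exact add_neg_cancel _
  obtain ⟨c, hc⟩ := sections_exact hS _ _ hd
  obtain ⟨e, he⟩ := h₁.2 0 c (sections_injective hS _ (by rw [E.d_naturality, hc, E.d_d, map_zero]))
  let r' := r - S.f.hom.app (op (E.P 0)) e
  have hr' : E.d S.X₂.obj 0 r' = 0 := by rw [map_sub, ← E.d_naturality, he, hc, sub_self]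
  obtain ⟨t, ht, ht0⟩ := exists_family E hcov S.X₂ r' hr'
  let ψ' : P ⟶ S.X₂.obj :=
    { app := fun W => AddCommGrpCat.ofHom ((zmultiplesHom _ (t W.unop)).comp AddEquiv.ulift.toAddMonoidHom)
      naturality := fun W W' g => hom_ext_one.{w, v} (by
        show (1 : ℤ) • t W'.unop = S.X₂.obj.map g.unop.op ((1 : ℤ) • t W.unop)
        rw [one_zsmul, one_zsmul, ht]) }
  refine ⟨(adj.homEquiv P S.X₂).symm ψ', (adj.homEquiv P S.X₃).injective ?_⟩
  rw [adj.homEquiv_naturality_right, Equiv.apply_symm_apply]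
  refine NatTrans.ext (funext fun W => hom_ext_one.{w, v} ?_)
  show S.g.hom.app W ((1 : ℤ) • t W.unop) = s W.unop
  rw [one_zsmul]
  obtain ⟨W', a, ⟨d⟩, hcW⟩ := hcov W.unop
  have hG : Presieve.IsSheaf J (S.X₃.obj ⋙ forget AddCommGrpCat.{max w v}) :=
    (isSheaf_iff_isSheaf_of_type _ _).1 ((sheafCompose J (forget AddCommGrpCat.{max w v})).obj S.X₃).property
  refine ((Presieve.isSheafFor_iff_generate _).2 (hG _ hcW)).isSeparatedFor.ext ?_
  rintro _ _ ⟨⟩
  have h1 : S.g.hom.app (op (E.P 0)) (t (E.P 0)) = s (E.P 0) := by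
    rw [ht0, map_sub, sections_map_zero, sub_zero, hr]
  let l := E.lift 0 fun _ => d
  show S.X₃.obj.map a.op (S.g.hom.app (op W.unop) (t W.unop)) = S.X₃.obj.map a.op (s W.unop)
  refine (ConcreteCategory.congr_hom (S.g.hom.naturality a.op) (t W.unop)).symm.trans ?_
  show S.g.hom.app (op W') (S.X₂.obj.map a.op (t W.unop)) = _
  rw [ht a, hs a, ← ht l, ← hs l, ← h1]
  exact ConcreteCategory.congr_hom (S.g.hom.naturality l.op) (t (E.P 0))

/-- The value at the atlas of a morphism from the constant sheaf. -/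
def evAtlas {G : Sheaf J AddCommGrpCat.{max w v}}
    (φ : (constantSheaf J AddCommGrpCat.{max w v}).obj (AddCommGrpCat.of (ULift.{max w v} ℤ)) ⟶ G) :
    G.obj.obj (op (E.P 0)) :=
  ((sheafificationAdjunction J AddCommGrpCat.{max w v}).homEquiv
    ((Functor.const Cᵒᵖ).obj (AddCommGrpCat.of (ULift.{max w v} ℤ))) G φ).app (op (E.P 0)) one.{w, v}

theorem evAtlas_comp {G H : Sheaf J AddCommGrpCat.{max w v}}
    (φ : (constantSheaf J AddCommGrpCat.{max w v}).obj (AddCommGrpCat.of (ULift.{max w v} ℤ)) ⟶ G) (g : G ⟶ H) :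
    evAtlas E (φ ≫ g) = g.hom.app (op (E.P 0)) (evAtlas E φ) := by
  rw [evAtlas, Adjunction.homEquiv_naturality_right]
  rfl

include hcov in
theorem evAtlas_injective (G : Sheaf J AddCommGrpCat.{max w v}) :
    Function.Injective (evAtlas E (J := J) (G := G)) := fun φ ψ h => by
  let adj := sheafificationAdjunction J AddCommGrpCat.{max w v}
  let P : Cᵒᵖ ⥤ AddCommGrpCat.{max w v} := (Functor.const _).obj (AddCommGrpCat.of (ULift.{max w v} ℤ))
  refine (adj.homEquiv P G).injective (NatTrans.ext (funext fun W => hom_ext_one.{w, v} ?_))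
  obtain ⟨W', a, ⟨d⟩, hcW⟩ := hcov W.unop
  have hG : Presieve.IsSheaf J (G.obj ⋙ forget AddCommGrpCat.{max w v}) :=
    (isSheaf_iff_isSheaf_of_type _ _).1 ((sheafCompose J (forget AddCommGrpCat.{max w v})).obj G).property
  refine ((Presieve.isSheafFor_iff_generate _).2 (hG _ hcW)).isSeparatedFor.ext ?_
  rintro _ _ ⟨⟩
  have hn : ∀ (χ : P ⟶ G.obj) {V V' : C} (g : V' ⟶ V),
      G.obj.map g.op (χ.app (op V) one.{w, v}) = χ.app (op V') one.{w, v} := fun χ {V V'} g =>
    (ConcreteCategory.congr_hom (χ.naturality g.op) one.{w, v}).symm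
  let l := E.lift 0 fun _ => d
  exact (hn (adj.homEquiv P G φ) a).trans ((((hn (adj.homEquiv P G φ) l).symm.trans
    (congrArg (G.obj.map l.op) h)).trans (hn (adj.homEquiv P G ψ) l)).trans (hn (adj.homEquiv P G ψ) a).symm)

include hcov in
theorem exists_evAtlas_eq {G : Sheaf J AddCommGrpCat.{max w v}} (r : G.obj.obj (op (E.P 0)))
    (hr : E.d G.obj 0 r = 0) :
    ∃ φ : (constantSheaf J AddCommGrpCat.{max w v}).obj (AddCommGrpCat.of (ULift.{max w v} ℤ)) ⟶ G,
      evAtlas E φ = r := by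
  obtain ⟨t, ht, ht0⟩ := exists_family E hcov G r hr
  let ψ : (Functor.const Cᵒᵖ).obj (AddCommGrpCat.of (ULift.{max w v} ℤ)) ⟶ G.obj :=
    { app := fun W => AddCommGrpCat.ofHom ((zmultiplesHom _ (t W.unop)).comp AddEquiv.ulift.toAddMonoidHom)
      naturality := fun W W' g => hom_ext_one.{w, v} (by
        show (1 : ℤ) • t W'.unop = G.obj.map g.unop.op ((1 : ℤ) • t W.unop)
        rw [one_zsmul, one_zsmul, ht]) }
  refine ⟨((sheafificationAdjunction J AddCommGrpCat.{max w v}).homEquiv _ G).symm ψ, ?_⟩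
  rw [evAtlas, Equiv.apply_symm_apply]
  show (1 : ℤ) • t (E.P 0) = r
  rw [one_zsmul, ht0]

theorem d_evAtlas {G : Sheaf J AddCommGrpCat.{max w v}}
    (φ : (constantSheaf J AddCommGrpCat.{max w v}).obj (AddCommGrpCat.of (ULift.{max w v} ℤ)) ⟶ G) :
    E.d G.obj 0 (evAtlas E φ) = 0 := by
  let χ := (sheafificationAdjunction J AddCommGrpCat.{max w v}).homEquiv
    ((Functor.const Cᵒᵖ).obj (AddCommGrpCat.of (ULift.{max w v} ℤ))) G φ
  have hn : ∀ (V V' : C) (g : V' ⟶ V), G.obj.map g.op (χ.app (op V) one.{w, v}) = χ.app (op V') one.{w, v} :=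
    fun V V' g => (ConcreteCategory.congr_hom (χ.naturality g.op) one.{w, v}).symm
  show E.d G.obj 0 (χ.app (op (E.P 0)) one.{w, v}) = 0
  rw [E.d_apply, Fin.sum_univ_two]
  simp only [Fin.val_zero, pow_zero, one_smul, Fin.val_one, pow_one, neg_smul]
  rw [hn, hn]
  exact add_neg_cancel _

variable [HasExt.{max w v} (Sheaf J AddCommGrpCat.{max w v})] [EnoughInjectives (Sheaf J AddCommGrpCat.{max w v})]

include hB hcov in
/-- Acyclic sheaves have no higher cohomology. -/
theorem subsingleton_H_of_atlas : ∀ (q : ℕ) (F : Sheaf J AddCommGrpCat.{max w v}), AtlasAcyclic K E F →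
    Subsingleton (Sheaf.H F (q + 1)) := by
  suffices h : ∀ (q : ℕ) (F : Sheaf J AddCommGrpCat.{max w v}), AtlasAcyclic K E F →
      ∀ x : Sheaf.H F (q + 1), x = 0 from
    fun q F hF => ⟨fun a b => (h q F hF a).trans (h q F hF b).symm⟩
  intro q
  induction q with
  | zero =>
    intro F hF x
    let S : ShortComplex (Sheaf J AddCommGrpCat.{max w v}) :=
      ShortComplex.mk (Injective.ι F) (cokernel.π _) (cokernel.condition _)
    have hS : S.ShortExact := { exact := ShortComplex.exact_of_g_is_cokernel S (cokernelIsCokernel _) }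
    obtain ⟨x₃, hx⟩ := Ext.covariant_sequence_exact₁ _ hS x (Ext.eq_zero_of_injective _) rfl
    obtain ⟨φ, rfl⟩ := Ext.addEquiv₀.symm.surjective x₃
    obtain ⟨ψ, hψ⟩ := exists_lift_constant K E hB hcov hS hF φ
    rw [← hx, ← hψ, Ext.addEquiv₀_symm_apply, ← Ext.mk₀_comp_mk₀, Ext.comp_assoc_of_second_deg_zero,
      ShortComplex.ShortExact.comp_extClass, Ext.comp_zero]
  | succ n ih =>
    intro F hF x
    let S : ShortComplex (Sheaf J AddCommGrpCat.{max w v}) :=
      ShortComplex.mk (Injective.ι F) (cokernel.π _) (cokernel.condition _)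
    have hS : S.ShortExact := { exact := ShortComplex.exact_of_g_is_cokernel S (cokernelIsCokernel _) }
    obtain ⟨x₃, hx⟩ := Ext.covariant_sequence_exact₁ _ hS x (Ext.eq_zero_of_injective _) rfl
    have h₃ : AtlasAcyclic K E S.X₃ := atlasAcyclic_X₃ K E hB hS hF (atlasAcyclic_of_injective K E _)
    rw [← hx, ih S.X₃ h₃ x₃, Ext.zero_comp]

end FibPow

end GrothLib
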