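import Groth.Agent.Lib.FibPow.Basic
import Mathlib.Algebra.Category.ModuleCat.Presheaf.Free
import Mathlib.Algebra.Category.ModuleCat.Presheaf.Abelian
import Mathlib.Algebra.Category.ModuleCat.Presheaf.Limits
import Mathlib.Algebra.Category.ModuleCat.Presheaf.Colimits

/-!
# Čech cohomology of injective presheaves of modules

* `vanishes_of_injective_mod`: positive degree cocycles are coboundaries.
-/

set_option autoImplicit false
set_option backward.isDefEq.respectTransparency false

universe u

open CategoryTheory Limits Opposite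

noncomputable section

namespace GrothLib.FibPow

variable {C : Type (u + 1)} [Category.{u} C] {T Y : C} {f : T ⟶ Y} (E : FibPow f)
  (R : Cᵒᵖ ⥤ RingCat.{u + 1})

/-- The free module on the `n`-th fibre power. -/
abbrev modP (n : ℕ) : PresheafOfModules.{u + 1} R :=
  (PresheafOfModules.free R).obj (uliftYoneda.{u + 1}.obj (E.P n))

/-- A generator. -/
abbrev modGenP {n : ℕ} {W : C} (a : W ⟶ E.P n) : (E.modP R n).obj (op W) :=
  ModuleCat.freeMk (ULift.up a)

theorem modP_map {n : ℕ} {W W' : C} (k : W' ⟶ W) (a : W ⟶ E.P n) :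
    (E.modP R n).presheaf.map k.op (E.modGenP R a) = E.modGenP R (k ≫ a) :=
  ModuleCat.freeDesc_apply _ _

/-- The boundary. -/
def modBd (n : ℕ) : E.modP R (n + 1) ⟶ E.modP R n :=
  ∑ k : Fin (n + 2), (-1 : ℤ) ^ (k : ℕ) • (PresheafOfModules.free R).map (uliftYoneda.{u + 1}.map (E.δ n k))

theorem modBd_gen (n : ℕ) {W : C} (a : W ⟶ E.P (n + 1)) :
    ((E.modBd R n).app (op W)).hom (E.modGenP R a) =
      ∑ k : Fin (n + 2), (-1 : ℤ) ^ (k : ℕ) • E.modGenP R (a ≫ E.δ n k) := by
  let ev : (E.modP R (n + 1) ⟶ E.modP R n) →+ (E.modP R n).obj (op W) :=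
    { toFun := fun φ => (φ.app (op W)).hom (E.modGenP R a)
      map_zero' := rfl
      map_add' := fun _ _ => rfl }
  show ev (E.modBd R n) = _
  rw [modBd, map_sum]
  refine Finset.sum_congr rfl fun k _ => ?_
  rw [map_zsmul]
  exact congrArg _ (ModuleCat.free_map_apply _ _)

variable (G : PresheafOfModules.{u + 1} R)

/-- The morphism given by a section. -/
def ofSecM {n : ℕ} (x : G.presheaf.obj (op (E.P n))) : E.modP R n ⟶ G :=
  PresheafOfModules.freeObjDesc
    { app := fun W => ↾fun a => G.presheaf.map a.down.op x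
      naturality := fun W W' k => by
        ext a
        show G.presheaf.map (k.unop ≫ a.down).op x = G.presheaf.map k (G.presheaf.map a.down.op x)
        rw [op_comp, Functor.map_comp_apply]
        rfl }

theorem ofSecM_app {n : ℕ} (x : G.presheaf.obj (op (E.P n))) :
    ((E.ofSecM R G x).app (op (E.P n))).hom (E.modGenP R (𝟙 _)) = x := by
  refine (ModuleCat.freeDesc_apply _ _).trans ?_
  show G.presheaf.map (𝟙 (E.P n)).op x = x
  rw [op_id, G.presheaf.map_id]
  rfl

theorem modP_hom_ext {n : ℕ} {φ ψ : E.modP R n ⟶ G}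
    (h : (φ.app (op (E.P n))).hom (E.modGenP R (𝟙 _)) = (ψ.app (op (E.P n))).hom (E.modGenP R (𝟙 _))) : φ = ψ := by
  refine PresheafOfModules.hom_ext fun W => ModuleCat.free_hom_ext fun a => ?_
  have hn : ∀ χ : E.modP R n ⟶ G, (χ.app (op W.unop)).hom (E.modGenP R a.down) =
      G.presheaf.map a.down.op ((χ.app (op (E.P n))).hom (E.modGenP R (𝟙 _))) := fun χ => by
    refine Eq.trans ?_ (PresheafOfModules.naturality_apply χ a.down.op _)
    refine congrArg (χ.app (op W.unop)).hom ((E.modP_map R a.down (𝟙 _)).trans ?_).symm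
    rw [Category.comp_id]
  exact (hn φ).trans ((congrArg _ h).trans (hn ψ).symm)

theorem modBd_comp_app {n : ℕ} (χ : E.modP R n ⟶ G) :
    ((E.modBd R n ≫ χ).app (op (E.P (n + 1)))).hom (E.modGenP R (𝟙 _)) =
      E.d G.presheaf n ((χ.app (op (E.P n))).hom (E.modGenP R (𝟙 _))) := by
  refine (congrArg (χ.app (op (E.P (n + 1)))).hom (E.modBd_gen R n (𝟙 _))).trans ?_
  rw [map_sum, d_apply]
  refine Finset.sum_congr rfl fun k _ => ?_
  rw [map_zsmul]
  refine congrArg _ ?_
  refine Eq.trans ?_ (PresheafOfModules.naturality_apply χ (E.δ n k).op _)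
  refine congrArg (χ.app (op (E.P (n + 1)))).hom ((E.modP_map R (E.δ n k) (𝟙 _)).trans ?_).symm
  rw [Category.comp_id, Category.id_comp]

/-- The contracting homotopy. -/
def modHomotopy (n : ℕ) (W : C) : (E.modP R n).obj (op W) ⟶ (E.modP R (n + 1)).obj (op W) :=
  ModuleCat.freeDesc (↾fun a => E.modGenP R (E.cons n a.down))

theorem exists_preimage_mod (n : ℕ) (W : C) (x : (E.modP R (n + 1)).obj (op W))
    (hx : ((E.modBd R n).app (op W)).hom x = 0) : ∃ y, ((E.modBd R (n + 1)).app (op W)).hom y = x := by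
  have hH : ∀ (m : ℕ) (a : W ⟶ E.P m), (E.modHomotopy R m W).hom (E.modGenP R a) = E.modGenP R (E.cons m a) :=
    fun m a => ModuleCat.freeDesc_apply _ _
  have key : E.modHomotopy R (n + 1) W ≫ (E.modBd R (n + 1)).app (op W) +
      (E.modBd R n).app (op W) ≫ E.modHomotopy R n W = 𝟙 _ := by
    refine ModuleCat.free_hom_ext fun ⟨a⟩ => ?_
    show ((E.modBd R (n + 1)).app (op W)).hom ((E.modHomotopy R (n + 1) W).hom (E.modGenP R a)) +
      (E.modHomotopy R n W).hom (((E.modBd R n).app (op W)).hom (E.modGenP R a)) = E.modGenP R a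
    rw [hH, modBd_gen, modBd_gen, map_sum, Fin.sum_univ_succ]
    simp only [map_zsmul, hH, cons_δ_zero, cons_δ_succ, Fin.val_zero, pow_zero,
      one_smul, Fin.val_succ, pow_succ, mul_neg, mul_one, neg_smul, Finset.sum_neg_distrib]
    abel
  refine ⟨(E.modHomotopy R (n + 1) W).hom x, ?_⟩
  have h := congrArg (fun φ => φ.hom x) key
  change ((E.modBd R (n + 1)).app (op W)).hom ((E.modHomotopy R (n + 1) W).hom x) +
    (E.modHomotopy R n W).hom (((E.modBd R n).app (op W)).hom x) = x at h
  rw [hx, map_zero, add_zero] at h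
  exact h

/-- Čech cohomology of injective presheaves of modules vanishes in positive degrees. -/
theorem vanishes_of_injective_mod [Injective G] : E.Vanishes G.presheaf := fun n c hc => by
  have h0 : E.modBd R (n + 1) ≫ E.modBd R n = 0 := E.modP_hom_ext R _ (by
    rw [modBd_comp_app, ← Category.comp_id (E.modBd R n), modBd_comp_app, d_d]
    rfl)
  let S : ShortComplex (PresheafOfModules.{u + 1} R) := ShortComplex.mk (E.modBd R (n + 1)) (E.modBd R n) h0
  haveI : (PresheafOfModules.toPresheaf.{u + 1} R).PreservesZeroMorphisms := ⟨fun _ _ => rfl⟩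
  have hS : S.Exact := by
    refine Functor.reflects_exact_of_faithful (PresheafOfModules.toPresheaf.{u + 1} R) S ?_
    rw [ShortComplex.exact_iff_isZero_homology]
    refine Functor.isZero _ fun W => ?_
    refine IsZero.of_iso ?_ ((S.map (PresheafOfModules.toPresheaf.{u + 1} R)).mapHomologyIso
      ((evaluation Cᵒᵖ AddCommGrpCat.{u + 1}).obj W)).symm
    rw [← ShortComplex.exact_iff_isZero_homology, ShortComplex.ab_exact_iff]
    exact fun x hx => E.exists_preimage_mod R n W.unop x hx
  let ψ := hS.descToInjective (E.ofSecM R G c) (E.modP_hom_ext R G (by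
    rw [modBd_comp_app, ofSecM_app, hc]; rfl))
  refine ⟨(ψ.app (op (E.P n))).hom (E.modGenP R (𝟙 _)), ?_⟩
  rw [← modBd_comp_app, show E.modBd R n ≫ ψ = E.ofSecM R G c from hS.comp_descToInjective _ _, ofSecM_app]

end GrothLib.FibPow
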