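import Groth.Agent.Lib.FibPow.Basic
import Mathlib.CategoryTheory.Limits.Preserves.Shapes.Pullbacks
import Mathlib.CategoryTheory.Limits.Shapes.Pullback.IsPullback.Basic

/-!
# Fibre powers from pullbacks
-/

set_option autoImplicit false

universe v v' u u'

open CategoryTheory Limits

namespace GrothLib.FibPow

variable {C : Type u} [Category.{v} C] {D : Type u'} [Category.{v'} D] {T Y : C}

/-- `P` with `π` is the `(n+1)`-fold fibre power of `f`. -/
structure IsPow (f : T ⟶ Y) {n : ℕ} (P : C) (π : Fin (n + 1) → (P ⟶ T)) : Prop where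
  w : ∀ i j, π i ≫ f = π j ≫ f
  exists_lift : ∀ {W : C} (a : Fin (n + 1) → (W ⟶ T)), (∀ i j, a i ≫ f = a j ≫ f) →
    ∃ l : W ⟶ P, ∀ i, l ≫ π i = a i
  hom_ext : ∀ {W : C} (l l' : W ⟶ P), (∀ i, l ≫ π i = l' ≫ π i) → l = l'

theorem isPow (f : T ⟶ Y) (E : FibPow f) (n : ℕ) : IsPow f (E.P n) (E.π n) :=
  ⟨E.w n, fun a h => E.exists_lift n a h, fun l l' h => E.hom_ext n l l' h⟩

theorem isPow_zero (f : T ⟶ Y) : IsPow f (n := 0) T fun _ => 𝟙 T where
  w _ _ := rfl
  exists_lift a _ := ⟨a 0, fun i => by rw [Category.comp_id, Fin.fin_one_eq_zero i]⟩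
  hom_ext l l' h := by simpa using h 0

theorem IsPow.succ {f : T ⟶ Y} {n : ℕ} {P : C} {π : Fin (n + 1) → (P ⟶ T)} (h : IsPow f P π) {Q : C}
    {fst : Q ⟶ P} {snd : Q ⟶ T} (hQ : IsPullback fst snd (π 0 ≫ f) f) :
    IsPow f (n := n + 1) Q (Fin.cases snd fun i => fst ≫ π i) where
  w := by
    have : ∀ i : Fin (n + 2), (Fin.cases snd (fun i => fst ≫ π i) i : Q ⟶ T) ≫ f = snd ≫ f := fun i => by
      cases i using Fin.cases with
      | zero => rfl
      | succ i => simp only [Fin.cases_succ]; rw [Category.assoc, h.w i 0, hQ.w]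
    exact fun i j => (this i).trans (this j).symm
  exists_lift a ha := by
    obtain ⟨g, hg⟩ := h.exists_lift (fun i => a i.succ) fun i j => ha _ _
    refine ⟨hQ.lift g (a 0) (by rw [← Category.assoc, hg]; exact ha _ _), fun i => ?_⟩
    cases i using Fin.cases with
    | zero => exact hQ.lift_snd _ _ _
    | succ i => simp only [Fin.cases_succ]; rw [hQ.lift_fst_assoc, hg]
  hom_ext l l' e := hQ.hom_ext (h.hom_ext _ _ fun i => by
    simpa using e i.succ) (by simpa using e 0)

section

variable [HasPullbacks C] (f : T ⟶ Y)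

/-- The objects and projections of iterated pullbacks. -/
noncomputable def powAux : ∀ n : ℕ, Σ P : C, Fin (n + 1) → (P ⟶ T)
  | 0 => ⟨T, fun _ => 𝟙 T⟩
  | n + 1 => ⟨pullback ((powAux n).2 0 ≫ f) f,
      Fin.cases (pullback.snd _ _) fun i => pullback.fst ((powAux n).2 0 ≫ f) f ≫ (powAux n).2 i⟩

theorem isPow_powAux : ∀ n, IsPow f (powAux f n).1 (powAux f n).2
  | 0 => isPow_zero f
  | n + 1 => (isPow_powAux n).succ (IsPullback.of_hasPullback _ _)

/-- Fibre powers by iterated pullbacks. -/
noncomputable def ofPullbacks : FibPow f where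
  P n := (powAux f n).1
  π n := (powAux f n).2
  w n := (isPow_powAux f n).w
  exists_lift n a h := (isPow_powAux f n).exists_lift a h
  hom_ext n l l' h := (isPow_powAux f n).hom_ext l l' h

variable (F : C ⥤ D) [PreservesLimitsOfShape WalkingCospan F]

theorem isPow_map_powAux : ∀ n, IsPow (F.map f) (F.obj (powAux f n).1) fun i => F.map ((powAux f n).2 i)
  | 0 => by
    have := isPow_zero (F.map f)
    simpa [powAux] using this
  | n + 1 => by
    have h := (isPow_map_powAux n).succ (Q := F.obj (pullback ((powAux f n).2 0 ≫ f) f))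
      (fst := F.map (pullback.fst _ _)) (snd := F.map (pullback.snd _ _))
      (by rw [← F.map_comp]; exact (IsPullback.of_hasPullback _ _).map F)
    refine Eq.mp (congrArg (IsPow (n := n + 1) (F.map f) (F.obj (pullback ((powAux f n).2 0 ≫ f) f))) (funext fun i => ?_)) h
    cases i using Fin.cases with
    | zero => rfl
    | succ i => exact (F.map_comp _ _).symm

/-- Functors preserving pullbacks preserve fibre powers. -/
theorem isPow_map (E : FibPow f) (n : ℕ) : IsPow (F.map f) (F.obj (E.P n)) fun i => F.map (E.π n i) := by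
  obtain ⟨l, hl⟩ := E.exists_lift n (powAux f n).2 (isPow_powAux f n).w
  obtain ⟨l', hl'⟩ := (isPow_powAux f n).exists_lift (E.π n) (E.w n)
  have hinv : l' ≫ l = 𝟙 _ := E.hom_ext n _ _ fun i => by rw [Category.assoc, hl, hl', Category.id_comp]
  have h := isPow_map_powAux f F n
  refine ⟨fun i j => by rw [← F.map_comp, ← F.map_comp, E.w], fun a ha => ?_, fun m m' e => ?_⟩
  · obtain ⟨g, hg⟩ := h.exists_lift a ha
    exact ⟨g ≫ F.map l, fun i => by rw [Category.assoc, ← F.map_comp, hl, hg]⟩
  · have : m ≫ F.map l' = m' ≫ F.map l' := h.hom_ext _ _ fun i => by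
      rw [Category.assoc, Category.assoc, ← F.map_comp, hl']
      exact e i
    have := congrArg (· ≫ F.map l) this
    simpa only [Category.assoc, ← F.map_comp, hinv, F.map_id, Category.comp_id] using this

end

end GrothLib.FibPow
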