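import Groth.Agent.Lib.FibPow.Basic
import Mathlib.CategoryTheory.Sites.Abelian
import Mathlib.CategoryTheory.Sites.EpiMono
import Mathlib.CategoryTheory.Sites.Limits
import Mathlib.CategoryTheory.Sites.LeftExact
import Mathlib.Algebra.Category.Grp.AB
import Mathlib.Algebra.Homology.ShortComplex.ExactFunctor

/-!
# Cartan's criterion for covers by one morphism, in elements

If the Čech cohomology of a sheaf vanishes for a cofinal class of single covers of a class of
objects, then sections over these objects of the terms of any short exact sequence starting with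
it are exact.
-/

set_option autoImplicit false
set_option backward.isDefEq.respectTransparency.types false

universe w v u

open CategoryTheory Limits Opposite

namespace GrothLib.FibPow

variable {C : Type u} [Category.{v} C] {J : GrothendieckTopology C}
  [HasSheafify J AddCommGrpCat.{max w v}] [J.WEqualsLocallyBijective AddCommGrpCat.{max w v}]
  [J.HasSheafCompose (forget AddCommGrpCat.{max w v})]

/-- A class of objects with cofinal single covers having fibre powers in the class. -/
structure CoverClass (J : GrothendieckTopology C) : Type (max u v (max w v + 1)) where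
  B : C → Prop
  Cov : ∀ ⦃T Y : C⦄, (T ⟶ Y) → Prop
  mem : ∀ ⦃T Y : C⦄ (f : T ⟶ Y) (E : FibPow f), Cov f → ∀ n, B (E.P n)
  refine' : ∀ Y, B Y → ∀ (F G : Sheaf J AddCommGrpCat.{max w v}) (φ : F ⟶ G) (s : G.obj.obj (op Y)),
    Presheaf.imageSieve φ.hom s ∈ J Y → ∃ (T : C) (f : T ⟶ Y) (_ : FibPow f),
    Cov f ∧ Sieve.generate (Presieve.singleton f) ∈ J Y ∧ ∃ r, φ.hom.app (op T) r = G.obj.map f.op s

/-- Čech acyclicity for the chosen covers. -/
def CoverClass.Acyclic (K : CoverClass.{w} J) (G : Sheaf J AddCommGrpCat.{max w v}) : Prop :=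
  ∀ ⦃T Y : C⦄ (f : T ⟶ Y) (E : FibPow f), K.Cov f → E.Vanishes G.obj

theorem CoverClass.acyclic_of_injective (K : CoverClass.{w} J) (I : Sheaf J AddCommGrpCat.{max w v}) [Injective I] :
    K.Acyclic I := fun T Y f E _ => by
  haveI : Injective ((sheafToPresheaf J AddCommGrpCat.{max w v}).obj I) :=
    Injective.injective_of_adjoint (sheafificationAdjunction J AddCommGrpCat.{max w v}) I
  exact vanishes_of_injective.{w} E ((sheafToPresheaf J AddCommGrpCat.{max w v}).obj I)

variable {S : ShortComplex (Sheaf J AddCommGrpCat.{max w v})}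

theorem sections_map_zero (S : ShortComplex (Sheaf J AddCommGrpCat.{max w v})) (U : C) (x : S.X₁.obj.obj (op U)) :
    S.g.hom.app (op U) (S.f.hom.app (op U) x) = 0 :=
  ConcreteCategory.congr_hom (congrArg (fun φ : S.X₁ ⟶ S.X₃ => φ.hom.app (op U)) S.zero) x

theorem sections_injective (hS : S.ShortExact) (U : C) : Function.Injective (S.f.hom.app (op U)) := by
  haveI := hS.mono_f
  haveI : Mono (((sheafToPresheaf J AddCommGrpCat.{max w v}) ⋙ (evaluation Cᵒᵖ _).obj (op U)).map S.f) :=
    inferInstance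
  exact (AddCommGrpCat.mono_iff_injective _).1 this

theorem sections_exact (hS : S.ShortExact) (U : C) (x : S.X₂.obj.obj (op U))
    (hx : S.g.hom.app (op U) x = 0) : ∃ y, S.f.hom.app (op U) y = x := by
  haveI := hS.mono_f
  let F := sheafToPresheaf J AddCommGrpCat.{max w v} ⋙ (evaluation Cᵒᵖ AddCommGrpCat.{max w v}).obj (op U)
  haveI : F.Additive := {}
  have h : (S.map F).Exact :=
    ((((Functor.preservesFiniteLimits_tfae F).out 3 1 rfl rfl : PreservesFiniteLimits F ↔ _).1 inferInstance) S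
      ⟨hS.exact, hS.mono_f⟩).1
  exact ((S.map F).ab_exact_iff).1 h x hx

theorem exists_cover_lift (hS : S.ShortExact) (U : C) (s : S.X₃.obj.obj (op U)) :
    Presheaf.imageSieve S.g.hom s ∈ J U := by
  haveI := hS.epi_g
  haveI : Sheaf.IsLocallySurjective S.g := (Sheaf.isLocallySurjective_iff_epi' _ S.g).2 inferInstance
  exact Presheaf.imageSieve_mem J S.g.hom s

variable (K : CoverClass.{w} J)

/-- Sections of an acyclic kernel: lifts exist on objects of the class. -/
theorem CoverClass.surjective (hS : S.ShortExact) (h₁ : K.Acyclic S.X₁) {Y : C} (hY : K.B Y) :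
    Function.Surjective (S.g.hom.app (op Y)) := fun s => by
  obtain ⟨T, f, E, hf, hcov, r₀, hr₀⟩ := K.refine' Y hY _ _ S.g s (exists_cover_lift hS Y s)
  let r := S.X₂.obj.map (E.π 0 0).op r₀
  have hs : S.g.hom.app (op (E.P 0)) r = S.X₃.obj.map (E.π 0 0 ≫ f).op s := by
    rw [op_comp, Functor.map_comp_apply, ← hr₀]
    exact ConcreteCategory.congr_hom (S.g.hom.naturality (E.π 0 0).op) r₀
  have hd : S.g.hom.app (op (E.P 1)) (E.d S.X₂.obj 0 r) = 0 := by
    rw [d_naturality, hs, d_apply, Fin.sum_univ_two]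
    simp only [Fin.val_zero, pow_zero, one_smul, Fin.val_one, pow_one, neg_smul]
    rw [← Functor.map_comp_apply, ← Functor.map_comp_apply, ← op_comp, ← op_comp,
      δ_π_assoc, δ_π_assoc, E.w 1 ((0 : Fin 2).succAbove 0) ((1 : Fin 2).succAbove 0)]
    exact add_neg_cancel _
  obtain ⟨c, hc⟩ := sections_exact hS _ _ hd
  obtain ⟨e, he⟩ := h₁ f E hf 0 c (sections_injective hS _ (by rw [d_naturality, hc, d_d, map_zero]))
  let r' := r - S.f.hom.app (op (E.P 0)) e
  have hr' : E.d S.X₂.obj 0 r' = 0 := by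
    rw [map_sub, ← d_naturality, he, hc, sub_self]
  let l := E.lift 0 (fun _ => 𝟙 T) fun _ _ => rfl
  let x := S.X₂.obj.map l.op r'
  have hgx : S.g.hom.app (op T) x = S.X₃.obj.map f.op s := by
    refine (ConcreteCategory.congr_hom (S.g.hom.naturality l.op) r').trans ?_
    show S.X₃.obj.map l.op (S.g.hom.app (op (E.P 0)) r') = _
    rw [map_sub, sections_map_zero, sub_zero, hs, ← Functor.map_comp_apply, ← op_comp, lift_π_assoc,
      Category.id_comp]
  have hcomp : ∀ {Z : C} (p₁ p₂ : Z ⟶ T), p₁ ≫ f = p₂ ≫ f →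
      S.X₂.obj.map p₁.op x = S.X₂.obj.map p₂.op x := by
    intro Z p₁ p₂ hp
    let q := E.lift 1 ![p₁, p₂] (by
      intro i j
      fin_cases i <;> fin_cases j <;> first | rfl | exact hp | exact hp.symm)
    have h0 := congrArg (S.X₂.obj.map q.op) hr'
    rw [d_apply, map_zero, map_sum, Fin.sum_univ_two] at h0
    simp only [Fin.val_zero, pow_zero, one_smul, Fin.val_one, pow_one, neg_smul, map_neg] at h0
    rw [← Functor.map_comp_apply, ← Functor.map_comp_apply, ← op_comp, ← op_comp, add_neg_eq_zero] at h0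
    have e₂ : q ≫ E.δ 0 0 = p₂ ≫ l := E.hom_ext _ _ _ fun i => by
      rw [Category.assoc, δ_π, lift_π, Category.assoc, lift_π, Category.comp_id]
      fin_cases i; rfl
    have e₁ : q ≫ E.δ 0 1 = p₁ ≫ l := E.hom_ext _ _ _ fun i => by
      rw [Category.assoc, δ_π, lift_π, Category.assoc, lift_π, Category.comp_id]
      fin_cases i; rfl
    rw [e₁, e₂] at h0
    show S.X₂.obj.map p₁.op (S.X₂.obj.map l.op r') = S.X₂.obj.map p₂.op (S.X₂.obj.map l.op r')
    rw [← Functor.map_comp_apply, ← Functor.map_comp_apply, ← op_comp, ← op_comp]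
    exact h0.symm
  have hsh : Presieve.IsSheafFor (S.X₂.obj ⋙ forget AddCommGrpCat.{max w v}) (Presieve.singleton f) :=
    (Presieve.isSheafFor_iff_generate _).2
      (((isSheaf_iff_isSheaf_of_type _ _).1 ((sheafCompose J (forget AddCommGrpCat.{max w v})).obj S.X₂).property) _ hcov)
  obtain ⟨t, ht, -⟩ := (Presieve.isSheafFor_singleton (P := S.X₂.obj ⋙ forget AddCommGrpCat.{max w v}) (f := f)).1 hsh x
    (fun p₁ p₂ hp => hcomp p₁ p₂ hp)
  change S.X₂.obj.obj (op Y) at t
  refine ⟨t, ((((isSheaf_iff_isSheaf_of_type _ _).1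
    ((sheafCompose J (forget AddCommGrpCat.{max w v})).obj S.X₃).property) _ hcov).isSeparatedFor).ext ?_⟩
  rintro Z _ ⟨_, a, _, ⟨⟩, rfl⟩
  show S.X₃.obj.map (a ≫ f).op (S.g.hom.app _ t) = S.X₃.obj.map (a ≫ f).op s
  rw [op_comp, Functor.map_comp_apply, Functor.map_comp_apply, ← hgx, ← ht]
  exact congrArg _ (ConcreteCategory.congr_hom (S.g.hom.naturality f.op) t).symm

theorem CoverClass.acyclic_X₃ (hS : S.ShortExact) (h₁ : K.Acyclic S.X₁) (h₂ : K.Acyclic S.X₂) :
    K.Acyclic S.X₃ := fun T Y f E hf n c hc => by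
  obtain ⟨b, hb⟩ := K.surjective hS h₁ (K.mem f E hf (n + 1)) c
  obtain ⟨g, hg⟩ := sections_exact hS _ (E.d S.X₂.obj (n + 1) b) (by rw [d_naturality, hb, hc])
  obtain ⟨g', hg'⟩ := h₁ f E hf (n + 1) g (sections_injective hS _ (by rw [d_naturality, hg, d_d, map_zero]))
  obtain ⟨a, ha⟩ := h₂ f E hf n (b - S.f.hom.app (op (E.P (n + 1))) g') (by
    rw [map_sub, ← d_naturality, hg', hg, sub_self])
  exact ⟨S.g.hom.app (op (E.P n)) a, by rw [← d_naturality, ha, map_sub, hb, sections_map_zero, sub_zero]⟩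

end GrothLib.FibPow
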