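import Mathlib.AlgebraicTopology.AlternatingFaceMapComplex
import Mathlib.Algebra.Category.Grp.Abelian
import Mathlib.Algebra.Category.Grp.Adjunctions
import Mathlib.Algebra.Category.Grp.EpiMono
import Mathlib.Algebra.Homology.ShortComplex.Ab
import Mathlib.CategoryTheory.Abelian.FunctorCategory
import Mathlib.CategoryTheory.Preadditive.Injective.Basic
import Mathlib.CategoryTheory.Abelian.Exact

/-!
# Čech complexes of one morphism, in elements

For a morphism `f : T ⟶ Y` with fibre powers, the alternating Čech differentials of a presheaf of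
abelian groups, and their exactness in positive degrees for injective presheaves.  The category may
be large.
-/

set_option autoImplicit false
set_option backward.isDefEq.respectTransparency.types false

universe w v u

open CategoryTheory Limits Opposite Simplicial

namespace GrothLib

variable {C : Type u} [Category.{v} C] {T Y : C}

/-- Fibre powers of `f`: `P n` is the `(n+1)`-fold fibre power. -/
structure FibPow (f : T ⟶ Y) where
  P : ℕ → C
  π : ∀ n, Fin (n + 1) → (P n ⟶ T)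
  w : ∀ n (i j : Fin (n + 1)), π n i ≫ f = π n j ≫ f
  exists_lift : ∀ {W : C} (n : ℕ) (a : Fin (n + 1) → (W ⟶ T)), (∀ i j, a i ≫ f = a j ≫ f) →
    ∃ l : W ⟶ P n, ∀ i, l ≫ π n i = a i
  hom_ext : ∀ {W : C} (n : ℕ) (l l' : W ⟶ P n), (∀ i, l ≫ π n i = l' ≫ π n i) → l = l'

namespace FibPow

variable {f : T ⟶ Y} (E : FibPow f)

/-- The map to a fibre power with given components. -/
noncomputable def lift {W : C} (n : ℕ) (a : Fin (n + 1) → (W ⟶ T)) (h : ∀ i j, a i ≫ f = a j ≫ f) :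
    W ⟶ E.P n :=
  (E.exists_lift n a h).choose

@[reassoc]
theorem lift_π {W : C} (n : ℕ) (a : Fin (n + 1) → (W ⟶ T)) (h : ∀ i j, a i ≫ f = a j ≫ f)
    (i : Fin (n + 1)) : E.lift n a h ≫ E.π n i = a i :=
  (E.exists_lift n a h).choose_spec i

/-- The simplicial object of fibre powers. -/
noncomputable def nerve : SimplicialObject C where
  obj m := E.P m.unop.len
  map φ := E.lift _ (fun i => E.π _ (φ.unop.toOrderHom i)) fun _ _ => E.w _ _ _
  map_id m := E.hom_ext _ _ _ fun i => by rw [lift_π, Category.id_comp]; rfl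
  map_comp φ ψ := E.hom_ext _ _ _ fun i => by
    rw [Category.assoc, lift_π, lift_π, lift_π]; rfl

/-- Omit the `k`-th component. -/
noncomputable def δ (n : ℕ) (k : Fin (n + 2)) : E.P (n + 1) ⟶ E.P n :=
  E.lift n (fun i => E.π (n + 1) (k.succAbove i)) fun _ _ => E.w _ _ _

@[reassoc]
theorem δ_π (n : ℕ) (k : Fin (n + 2)) (i : Fin (n + 1)) :
    E.δ n k ≫ E.π n i = E.π (n + 1) (k.succAbove i) :=
  E.lift_π _ _ _ _

theorem nerve_δ (n : ℕ) (k : Fin (n + 2)) : E.nerve.map (SimplexCategory.δ k).op = E.δ n k :=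
  E.hom_ext _ _ _ fun i =>
    (E.lift_π _ _ (fun _ _ => E.w _ _ _) i).trans (E.δ_π n k i).symm

section differential

variable (G : Cᵒᵖ ⥤ AddCommGrpCat.{w})

/-- The alternating Čech differential. -/
noncomputable def d (n : ℕ) : G.obj (op (E.P n)) ⟶ G.obj (op (E.P (n + 1))) :=
  ∑ k : Fin (n + 2), (-1 : ℤ) ^ (k : ℕ) • G.map (E.δ n k).op

theorem d_apply (n : ℕ) (x : G.obj (op (E.P n))) :
    E.d G n x = ∑ k : Fin (n + 2), (-1 : ℤ) ^ (k : ℕ) • G.map (E.δ n k).op x := by
  show AddCommGrpCat.homAddEquiv (∑ k : Fin (n + 2), (-1 : ℤ) ^ (k : ℕ) • G.map (E.δ n k).op) x = _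
  rw [map_sum, AddMonoidHom.finsetSum_apply]
  rfl

theorem d_d (n : ℕ) (x : G.obj (op (E.P n))) : E.d G (n + 1) (E.d G n x) = 0 := by
  let c : CosimplicialObject AddCommGrpCat.{w} := E.nerve.rightOp ⋙ G
  have h : ∀ m, E.d G m = AlgebraicTopology.AlternatingCofaceMapComplex.objD c m := fun m => by
    refine Finset.sum_congr rfl fun k _ => congrArg (fun z => (-1 : ℤ) ^ (k : ℕ) • z) ?_
    show G.map (E.δ m k).op = G.map (E.nerve.map (SimplexCategory.δ k).op).op
    rw [nerve_δ]; rfl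
  have := ConcreteCategory.congr_hom (AlgebraicTopology.AlternatingCofaceMapComplex.d_squared c n) x
  rw [h, h]
  exact this

theorem d_naturality {G' : Cᵒᵖ ⥤ AddCommGrpCat.{w}} (φ : G ⟶ G') (n : ℕ) (x : G.obj (op (E.P n))) :
    φ.app (op (E.P (n + 1))) (E.d G n x) = E.d G' n (φ.app (op (E.P n)) x) := by
  rw [d_apply, d_apply, map_sum]
  refine Finset.sum_congr rfl fun k _ => ?_
  rw [map_zsmul]
  exact congrArg _ (ConcreteCategory.congr_hom (φ.naturality (E.δ n k).op) x)

/-- The differentials commute with maps of fibre powers. -/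
theorem d_map {T' Y' : C} {f' : T' ⟶ Y'} (E' : FibPow f') (t : T ⟶ T') (m : ∀ n, E.P n ⟶ E'.P n)
    (hm : ∀ n i, m n ≫ E'.π n i = E.π n i ≫ t) (n : ℕ) (x : G.obj (op (E'.P n))) :
    G.map (m (n + 1)).op (E'.d G n x) = E.d G n (G.map (m n).op x) := by
  rw [d_apply, d_apply, map_sum]
  refine Finset.sum_congr rfl fun k _ => ?_
  rw [map_zsmul, ← Functor.map_comp_apply, ← Functor.map_comp_apply, ← op_comp, ← op_comp,
    show m (n + 1) ≫ E'.δ n k = E.δ n k ≫ m n from E'.hom_ext _ _ _ fun i => by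
      rw [Category.assoc, δ_π, hm, Category.assoc, hm, δ_π_assoc]]

end differential

/-- Positive degree cocycles are coboundaries. -/
def Vanishes (G : Cᵒᵖ ⥤ AddCommGrpCat.{w}) : Prop :=
  ∀ (n : ℕ) (c : G.obj (op (E.P (n + 1)))), E.d G (n + 1) c = 0 → ∃ b, E.d G n b = c

section injective

/-- A chosen preimage of `y`. -/
noncomputable def sect {W : C} (y : W ⟶ Y) (h : ∃ t : W ⟶ T, t ≫ f = y) : W ⟶ T := h.choose

omit E in
theorem sect_congr {W : C} {y y' : W ⟶ Y} (e : y = y') (h : ∃ t : W ⟶ T, t ≫ f = y)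
    (h' : ∃ t : W ⟶ T, t ≫ f = y') : sect y h = sect y' h' := by
  subst e; rfl

/-- Prepend the chosen preimage. -/
noncomputable def cons {W : C} (n : ℕ) (a : W ⟶ E.P n) : W ⟶ E.P (n + 1) :=
  E.lift (n + 1) (Fin.cases (sect (f := f) (a ≫ E.π n 0 ≫ f) ⟨a ≫ E.π n 0, Category.assoc _ _ _⟩)
    fun i => a ≫ E.π n i) (by
      have h : ∀ i : Fin (n + 2), (Fin.cases (sect (f := f) (a ≫ E.π n 0 ≫ f) ⟨a ≫ E.π n 0, Category.assoc _ _ _⟩)
          (fun i => a ≫ E.π n i) i : W ⟶ T) ≫ f = a ≫ E.π n 0 ≫ f := fun i => by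
        cases i using Fin.cases with
        | zero => exact Exists.choose_spec (p := fun t : W ⟶ T => t ≫ f = a ≫ E.π n 0 ≫ f) _
        | succ i => simp only [Fin.cases_succ]; rw [Category.assoc, E.w n i 0]
      exact fun i j => (h i).trans (h j).symm)

theorem cons_δ_zero {W : C} (n : ℕ) (a : W ⟶ E.P n) : E.cons n a ≫ E.δ n 0 = a :=
  E.hom_ext _ _ _ fun i => by
    rw [Category.assoc, δ_π, cons, lift_π, Fin.zero_succAbove, Fin.cases_succ]

theorem cons_δ_succ {W : C} (n : ℕ) (a : W ⟶ E.P (n + 1)) (k : Fin (n + 2)) :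
    E.cons (n + 1) a ≫ E.δ (n + 1) k.succ = E.cons n (a ≫ E.δ n k) :=
  E.hom_ext _ _ _ fun i => by
    rw [Category.assoc, δ_π, cons, lift_π, cons, lift_π]
    cases i using Fin.cases with
    | zero =>
      rw [Fin.succ_succAbove_zero, Fin.cases_zero, Fin.cases_zero]
      exact sect_congr (by rw [Category.assoc, δ_π_assoc, E.w]) _ _
    | succ i => rw [Fin.succ_succAbove_succ, Fin.cases_succ, Fin.cases_succ, Category.assoc, δ_π]

/-- The free presheaf on the `n`-th fibre power. -/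
noncomputable abbrev freeP (n : ℕ) : Cᵒᵖ ⥤ AddCommGrpCat.{max w v} :=
  uliftYoneda.{w}.obj (E.P n) ⋙ AddCommGrpCat.free.{max w v}

/-- The boundary of the free complex. -/
noncomputable def bd (n : ℕ) : E.freeP.{w} (n + 1) ⟶ E.freeP.{w} n :=
  ∑ k : Fin (n + 2), (-1 : ℤ) ^ (k : ℕ) •
    Functor.whiskerRight (uliftYoneda.{w}.map (E.δ n k)) AddCommGrpCat.free.{max w v}

/-- A generator of the free presheaf. -/
noncomputable def gen {n : ℕ} {W : C} (a : W ⟶ E.P n) : (E.freeP.{w} n).obj (op W) :=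
  FreeAbelianGroup.of (ULift.up a)

theorem freeP_map {n : ℕ} {W W' : C} (k : W' ⟶ W) (a : W ⟶ E.P n) :
    (E.freeP.{w} n).map k.op (E.gen a) = E.gen (k ≫ a) :=
  FreeAbelianGroup.map_of_apply _

theorem bd_of (n : ℕ) {W : C} (a : W ⟶ E.P (n + 1)) :
    (E.bd n).app (op W) (E.gen.{w} a) =
      ∑ k : Fin (n + 2), (-1 : ℤ) ^ (k : ℕ) • E.gen.{w} (a ≫ E.δ n k) := by
  rw [bd, NatTrans.app_sum]
  show AddCommGrpCat.homAddEquiv (∑ k, _) _ = _
  rw [map_sum, AddMonoidHom.finsetSum_apply]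
  refine Finset.sum_congr rfl fun k _ => ?_
  rw [NatTrans.app_zsmul, map_zsmul, AddMonoidHom.smul_apply]
  exact congrArg _ (FreeAbelianGroup.map_of_apply _)

theorem freeP_hom_ext {n : ℕ} {W : C} {A : Type*} [AddCommGroup A]
    (φ ψ : (E.freeP.{w} n).obj (op W) →+ A) (h : ∀ a : W ⟶ E.P n, φ (E.gen a) = ψ (E.gen a)) : φ = ψ :=
  FreeAbelianGroup.lift_ext φ ψ fun a => h a.down

/-- The contracting homotopy. -/
noncomputable def homotopy (n : ℕ) (W : C) :
    (E.freeP.{w} n).obj (op W) →+ (E.freeP.{w} (n + 1)).obj (op W) :=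
  FreeAbelianGroup.lift fun a => E.gen (E.cons n a.down)

theorem homotopy_gen {n : ℕ} {W : C} (a : W ⟶ E.P n) :
    E.homotopy.{w} n W (E.gen a) = E.gen (E.cons n a) :=
  FreeAbelianGroup.lift_apply_of _ _

theorem exists_preimage (n : ℕ) (W : C) (x : (E.freeP.{w} (n + 1)).obj (op W))
    (hx : (E.bd n).app (op W) x = 0) : ∃ y, (E.bd (n + 1)).app (op W) y = x := by
  have key : ((E.bd.{w} (n + 1)).app (op W)).hom.comp (E.homotopy (n + 1) W) +
      (E.homotopy n W).comp ((E.bd.{w} n).app (op W)).hom = AddMonoidHom.id _ := by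
    refine E.freeP_hom_ext _ _ fun a => ?_
    show (E.bd (n + 1)).app (op W) (E.homotopy (n + 1) W (E.gen a)) +
      E.homotopy n W ((E.bd n).app (op W) (E.gen a)) = E.gen a
    rw [homotopy_gen, bd_of, bd_of, map_sum, Fin.sum_univ_succ]
    simp only [map_zsmul, homotopy_gen, cons_δ_zero, cons_δ_succ, Fin.val_zero, pow_zero,
      one_smul, Fin.val_succ, pow_succ, mul_neg, mul_one, neg_smul, Finset.sum_neg_distrib]
    abel
  refine ⟨E.homotopy (n + 1) W x, ?_⟩
  have h := DFunLike.congr_fun key x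
  change (E.bd (n + 1)).app (op W) (E.homotopy (n + 1) W x) + E.homotopy n W ((E.bd n).app (op W) x) = x at h
  rw [hx, map_zero, add_zero] at h
  exact h

variable (G : Cᵒᵖ ⥤ AddCommGrpCat.{max w v})

/-- The morphism out of the free presheaf given by a section. -/
noncomputable def ofSec {n : ℕ} (x : G.obj (op (E.P n))) : E.freeP.{w} n ⟶ G where
  app W := AddCommGrpCat.ofHom (FreeAbelianGroup.lift fun a => G.map a.down.op x)
  naturality W W' k := by
    refine AddCommGrpCat.hom_ext (E.freeP_hom_ext (W := W.unop) _ _ fun a => ?_)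
    show FreeAbelianGroup.lift _ ((E.freeP.{w} n).map k.unop.op (E.gen a)) = G.map k.unop.op (FreeAbelianGroup.lift _ _)
    rw [freeP_map]
    refine (FreeAbelianGroup.lift_apply_of _ _).trans ?_
    refine Eq.trans ?_ (congrArg _ (FreeAbelianGroup.lift_apply_of _ _)).symm
    show G.map (k.unop ≫ a).op x = _
    rw [op_comp, Functor.map_comp_apply]


theorem ofSec_app {n : ℕ} (x : G.obj (op (E.P n))) :
    (E.ofSec G x).app (op (E.P n)) (E.gen (𝟙 _)) = x := by
  refine (FreeAbelianGroup.lift_apply_of _ _).trans ?_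
  rw [op_id, G.map_id]; rfl

theorem hom_ext_of {n : ℕ} {φ ψ : E.freeP.{w} n ⟶ G}
    (h : φ.app (op (E.P n)) (E.gen (𝟙 _)) = ψ.app (op (E.P n)) (E.gen (𝟙 _))) : φ = ψ := by
  refine NatTrans.ext (funext fun W => AddCommGrpCat.hom_ext (E.freeP_hom_ext (W := W.unop) _ _ fun a => ?_))
  have hn : ∀ χ : E.freeP.{w} n ⟶ G, χ.app (op W.unop) (E.gen a) =
      G.map a.op (χ.app (op (E.P n)) (E.gen (𝟙 _))) := fun χ => by
    refine Eq.trans ?_ (ConcreteCategory.congr_hom (χ.naturality a.op) _)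
    refine congrArg (χ.app (op W.unop)) ((E.freeP_map a (𝟙 _)).trans ?_).symm
    rw [Category.comp_id]
  exact (hn φ).trans ((congrArg _ h).trans (hn ψ).symm)

theorem bd_comp_app {n : ℕ} (χ : E.freeP.{w} n ⟶ G) :
    (E.bd n ≫ χ).app (op (E.P (n + 1))) (E.gen (𝟙 _)) = E.d G n (χ.app (op (E.P n)) (E.gen (𝟙 _))) := by
  refine (congrArg (χ.app (op (E.P (n + 1)))) (E.bd_of n (𝟙 _))).trans ?_
  rw [map_sum, d_apply]
  refine Finset.sum_congr rfl fun k _ => ?_
  rw [map_zsmul]
  refine congrArg _ ?_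
  refine Eq.trans ?_ (ConcreteCategory.congr_hom (χ.naturality (E.δ n k).op) _)
  refine congrArg (χ.app (op (E.P (n + 1)))) ((E.freeP_map (E.δ n k) (𝟙 _)).trans ?_).symm
  rw [Category.comp_id, Category.id_comp]

/-- Čech cohomology of injective presheaves vanishes in positive degrees. -/
theorem vanishes_of_injective [Injective G] : E.Vanishes G := fun n c hc => by
  have h0 : E.bd.{w} (n + 1) ≫ E.bd n = 0 := E.hom_ext_of _ (by
    rw [bd_comp_app, ← Category.comp_id (E.bd.{w} n), bd_comp_app, d_d]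
    rfl)
  let S : ShortComplex (Cᵒᵖ ⥤ AddCommGrpCat.{max w v}) := ShortComplex.mk (E.bd.{w} (n + 1)) (E.bd n) h0
  have hS : S.Exact := by
    rw [ShortComplex.exact_iff_isZero_homology]
    refine Functor.isZero _ fun W => ?_
    refine IsZero.of_iso ?_ (S.mapHomologyIso ((evaluation Cᵒᵖ AddCommGrpCat.{max w v}).obj W)).symm
    rw [← ShortComplex.exact_iff_isZero_homology, ShortComplex.ab_exact_iff]
    exact fun x hx => E.exists_preimage n W.unop x hx
  let ψ := hS.descToInjective (E.ofSec G c) (E.hom_ext_of G (by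
    rw [bd_comp_app, ofSec_app, hc]; rfl))
  refine ⟨ψ.app (op (E.P n)) (E.gen (𝟙 _)), ?_⟩
  rw [← bd_comp_app, show E.bd n ≫ ψ = E.ofSec G c from hS.comp_descToInjective _ _, ofSec_app]

end injective

end FibPow

end GrothLib
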